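import Cfsg.Agent.H121.OZ.JTwo
import Cfsg.Agent.H175.Eight.JTwo
import Cfsg.Agent.S0145

/-!
# The degrees of `J₂` (helper409, S4908)

* `key`: the value `v` at the central involutions: `16 ∣ d - v`, `0 ≤ d + 3 v`, `d ∣ 315 v`, `|v| < d`;
* `seven`: the column of the elements of order 7;
* `not_pp`: no degree of `J₂` is a prime power; `not_small`: the degrees `2 .. 9` do not occur.
-/

set_option autoImplicit false
set_option maxRecDepth 100000

open Cfsg Cfsg.Agent.Characters Cfsg.Agent.H732.VZ Cfsg.Agent.H604.OZ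

namespace Cfsg.Agent.H409.S8.JTwo

open Cfsg.Agent.H1 Cfsg.Agent.SporadicA.J2Hundred Cfsg.Agent.J2.HundredGens Cfsg.Agent.H1.J2Cls
  Cfsg.Agent.H1.J2Cover Cfsg.Agent.H121.OZ.JTwoCls Cfsg.Agent.H121.OZ.JTwo Cfsg.Agent.H121.OZ

theorem a_sq : gw wa ^ 2 = gw (rL (1 : Fin 21)) := by
  rw [pow_two_gw]
  exact chk_eq (by decide +kernel)

theorem index_z : (Subgroup.centralizer ({gw wa ^ 2} : Set G)).index = 315 := by
  have h2 := Subgroup.card_mul_index (Subgroup.centralizer ({gw wa ^ 2} : Set G))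
  rw [card_G] at h2
  change cent (gw wa ^ 2) * _ = _ at h2
  rw [a_sq, (rep 1).2] at h2
  have h3 : cv ((1 : Fin 21) : ℕ) = 1920 := by decide +kernel
  rw [h3] at h2
  rw [a_sq]
  omega

variable {χ : IrrCharacter G}

/-- **Local conditions.** -/
theorem key (hne : (χ : G → ℂ) ≠ 1) : ∃ v : ℤ, |v| < (charDegree (χ : G → ℂ) : ℤ) ∧
    (16 : ℤ) ∣ (charDegree (χ : G → ℂ) : ℤ) - v ∧ 0 ≤ (charDegree (χ : G → ℂ) : ℤ) + 3 * v ∧
    (charDegree (χ : G → ℂ) : ℤ) ∣ 315 * v := by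
  classical
  have hs := simple
  have hcf := Core.isIrr_isClassFunction χ.2
  have hχ := Core.isIrr_isCharacter χ.2
  have h1 : (χ : G → ℂ) 1 = (charDegree (χ : G → ℂ) : ℂ) := (H686.CharKit.charDegree_irr χ).symm
  obtain ⟨o8, -⟩ := rep 5
  have o8' : orderOf (gw (rL (5 : Fin 21))) = 8 := by rw [o8]; decide +kernel
  set e : G := gw (rL (5 : Fin 21)) with he
  have hratA : ∀ m : ℕ, m.Coprime (Nat.card G) → IsConj (gw wa ^ m) (gw wa) := fun m hm =>
    conj_four (by rw [order_pow hm, oa]) oa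
  have hratE : ∀ m : ℕ, m.Coprime (Nat.card G) → IsConj (e ^ m) e := fun m hm =>
    conj_of_order 5 (by decide +kernel) (by rw [order_pow hm, o8]) o8
  obtain ⟨w, hw⟩ := H849.OZ.rat (χ := χ) hratA
  obtain ⟨u, hu⟩ := H849.OZ.rat (χ := χ) hratE
  obtain ⟨v, hv, hlt, hv4⟩ := SmallSimple.InvolColumn.exists_int commutator_eq χ.2 hne (t := gw wa ^ 2)
    (by rw [← pow_mul]; exact a4) a2
  have hdvd := H849.OZ.rat_dvd_deg (χ := χ) (gw wa ^ 2) hv
  rw [index_z] at hdvd
  have hval : ∀ {g h : G}, IsConj g h → (χ : G → ℂ) h = (χ : G → ℂ) g := fun h =>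
    (Core.classFunction_apply_eq hcf h).symm
  generalize charDegree (χ : G → ℂ) = d at *
  -- `C₄ × C₄`
  obtain ⟨k, hk⟩ := sum_pow_pow hχ ab_comm oa ob
  have hterm : ∀ i j : Fin 4, (χ : G → ℂ) (gw wa ^ (i : ℕ) * gw wb ^ (j : ℕ)) =
      (((if (i : ℕ) % 2 = 0 ∧ (j : ℕ) % 2 = 0 then (if (i : ℕ) = 0 ∧ (j : ℕ) = 0 then (d : ℤ) else v) else w : ℤ)) : ℂ) := by
    intro i j
    have h2 := ab_pow i.2 j.2
    by_cases h3 : (i : ℕ) % 2 = 0 ∧ (j : ℕ) % 2 = 0
    · rw [if_pos h3]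
      by_cases h4 : (i : ℕ) = 0 ∧ (j : ℕ) = 0
      · rw [if_pos h4, h4.1, h4.2, pow_zero, pow_zero, one_mul, h1]
        norm_num
      · rw [if_neg h4, hval (h2.1 h3 h4), hv]
    · rw [if_neg h3, hval (h2.2 h3), hw]
  rw [Finset.sum_congr rfl fun i _ => Finset.sum_congr rfl fun j _ => hterm i j] at hk
  have hk' : (d + 3 * v + 12 * w : ℤ) = 16 * k := by
    have h2 : (∑ i : Fin 4, ∑ j : Fin 4,
        (if (i : ℕ) % 2 = 0 ∧ (j : ℕ) % 2 = 0 then (if (i : ℕ) = 0 ∧ (j : ℕ) = 0 then (d : ℤ) else v) else w : ℤ)) =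
        d + 3 * v + 12 * w := by
      simp [Fin.sum_univ_four]
      ring
    rw [← h2]
    have h3 : ((4 : ℕ) : ℂ) * ((4 : ℕ) : ℂ) * (k : ℂ) = ((16 * k : ℤ) : ℂ) := by push_cast; ring
    rw [h3] at hk
    exact_mod_cast hk
  -- the four-group
  have o2a : orderOf (gw wa ^ 2) = 2 := by
    rw [orderOf_pow' _ (by norm_num), oa]; norm_num
  have o2b : orderOf (gw wb ^ 2) = 2 := by
    rw [orderOf_pow' _ (by norm_num), ob]; norm_num
  obtain ⟨k2, hk2⟩ := sum_pow_pow hχ (ab_comm.pow_pow 2 2) o2a o2b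
  have hpos : 0 ≤ (d : ℤ) + 3 * v := by
    have e00 : (χ : G → ℂ) ((gw wa ^ 2) ^ 0 * (gw wb ^ 2) ^ 0) = d := by rw [pow_zero, pow_zero, one_mul, h1]
    have e10 : (χ : G → ℂ) ((gw wa ^ 2) ^ 1 * (gw wb ^ 2) ^ 0) = v := by
      rw [pow_zero, pow_one, mul_one, hv]
    have e01 : (χ : G → ℂ) ((gw wa ^ 2) ^ 0 * (gw wb ^ 2) ^ 1) = v := by
      have h2 := (ab_pow (i := 0) (j := 2) (by norm_num) (by norm_num)).1 (by decide) (by decide)
      rw [pow_zero, one_mul] at h2
      rw [pow_zero, pow_one, one_mul, hval h2, hv]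
    have e11 : (χ : G → ℂ) ((gw wa ^ 2) ^ 1 * (gw wb ^ 2) ^ 1) = v := by
      have h2 := (ab_pow (i := 2) (j := 2) (by norm_num) (by norm_num)).1 (by decide) (by decide)
      rw [pow_one, pow_one, hval h2, hv]
    rw [Fin.sum_univ_two, Fin.sum_univ_two, Fin.sum_univ_two] at hk2
    change (χ : G → ℂ) ((gw wa ^ 2) ^ 0 * (gw wb ^ 2) ^ 0) + (χ : G → ℂ) ((gw wa ^ 2) ^ 0 * (gw wb ^ 2) ^ 1) +
      ((χ : G → ℂ) ((gw wa ^ 2) ^ 1 * (gw wb ^ 2) ^ 0) + (χ : G → ℂ) ((gw wa ^ 2) ^ 1 * (gw wb ^ 2) ^ 1)) = _ at hk2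
    rw [e00, e01, e10, e11] at hk2
    have h3 : ((d : ℤ) + 3 * v : ℤ) = 4 * k2 := by
      have h4 : (((d : ℤ) + 3 * v : ℤ) : ℂ) = ((4 * k2 : ℤ) : ℂ) := by
        push_cast
        push_cast at hk2
        linear_combination hk2
      exact_mod_cast h4
    rw [h3]
    positivity
  -- `C₈`
  obtain ⟨l, hl⟩ := sum_pow_pow hχ (Commute.one_right e) o8' (orderOf_one)
  have c2 : IsConj (gw wa) (e ^ 2) := conj_four oa (by
    rw [orderOf_pow' e (by norm_num), o8']; norm_num)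
  have c4 : IsConj (gw wa ^ 2) (e ^ 4) := by
    have h2 := H849.OZ.isConj_pow c2 2
    rwa [← pow_mul] at h2
  have c6 : IsConj (gw wa) (e ^ 6) := conj_four oa (by
    rw [orderOf_pow' e (by norm_num), o8']; norm_num)
  have codd : ∀ m : ℕ, m.Coprime 8 → IsConj e (e ^ m) := fun m hm =>
    conj_of_order 5 (by decide +kernel) o8 (by
      rw [Nat.Coprime.orderOf_pow (by rw [o8']; exact hm.symm), o8])
  have hl' : (d + v + 2 * w + 4 * u : ℤ) = 8 * l := by
    simp only [one_pow, mul_one, Finset.sum_const, Finset.card_univ, Fintype.card_fin, one_smul] at hl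
    rw [Fin.sum_univ_eight] at hl
    have q0 : (χ : G → ℂ) (e ^ ((0 : Fin 8) : ℕ)) = d := by
      rw [show ((0 : Fin 8) : ℕ) = 0 from rfl, pow_zero, h1]
    have q1 : (χ : G → ℂ) (e ^ ((1 : Fin 8) : ℕ)) = u := by rw [hval (codd _ (by decide)), hu]
    have q2 : (χ : G → ℂ) (e ^ ((2 : Fin 8) : ℕ)) = w := by rw [← hw]; exact hval c2
    have q3 : (χ : G → ℂ) (e ^ ((3 : Fin 8) : ℕ)) = u := by rw [hval (codd _ (by decide)), hu]
    have q4 : (χ : G → ℂ) (e ^ ((4 : Fin 8) : ℕ)) = v := by rw [← hv]; exact hval c4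
    have q5 : (χ : G → ℂ) (e ^ ((5 : Fin 8) : ℕ)) = u := by rw [hval (codd _ (by decide)), hu]
    have q6 : (χ : G → ℂ) (e ^ ((6 : Fin 8) : ℕ)) = w := by rw [← hw]; exact hval c6
    have q7 : (χ : G → ℂ) (e ^ ((7 : Fin 8) : ℕ)) = u := by rw [hval (codd _ (by decide)), hu]
    rw [q0, q1, q2, q3, q4, q5, q6, q7] at hl
    have h3 : ((d + v + 2 * w + 4 * u : ℤ) : ℂ) = ((8 * l : ℤ) : ℂ) := by
      push_cast
      push_cast at hl
      linear_combination hl
    exact_mod_cast h3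
  -- parity of `u`
  have hu2 : (2 : ℤ) ∣ u - d := by
    obtain ⟨M, hM⟩ := Blocks.ExistsModular.exists_isPModular Nat.prime_two
    have h3 := H849.OZ.av_sub_mem (χ := χ) Nat.prime_two hM.2.1.isPrime hM.2.2 e (j := 0) (n := 3) (by
      rw [pow_zero, one_pow, show 2 ^ 3 = 8 from rfl, ← o8', pow_orderOf_eq_one])
    rw [pow_zero] at h3
    have h4 : av χ e - av χ (1 : G) = ((u - d : ℤ) : AlgInt) := by
      apply Subtype.ext
      rw [show ((av χ e - av χ (1 : G) : AlgInt) : ℂ) = (av χ e : ℂ) - (av χ (1 : G) : ℂ) from rfl, av_coe, av_coe, hu, h1]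
      push_cast
      rfl
    rwa [h4, int_mem_iff Nat.prime_two hM.2.1.isPrime hM.2.2] at h3
  refine ⟨v, hlt, ?_, hpos, by exact_mod_cast hdvd⟩
  omega

theorem o7 : orderOf (gw (rL (18 : Fin 21))) = 7 := by rw [(rep 18).1]; decide +kernel
theorem c7 : cent (gw (rL (18 : Fin 21))) = 7 := by rw [(rep 18).2]; decide +kernel

/-- **The column of the elements of order 7.** -/
theorem col [Fintype (IrrCharacter G)] : ∃ c : IrrCharacter G → ℤ,
    (∀ χ : IrrCharacter G, (7 : ℤ) ∣ (charDegree (χ : G → ℂ) : ℤ) - c χ) ∧ ∑ χ : IrrCharacter G, c χ * c χ = 7 ∧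
    ∑ χ : IrrCharacter G, (charDegree (χ : G → ℂ) : ℤ) * c χ = 0 := by
  classical
  have := Fintype.ofFinite G
  set x : G := gw (rL (18 : Fin 21)) with hx
  have hrat : ∀ m : ℕ, m.Coprime (Nat.card G) → IsConj (x ^ m) x := fun m hm =>
    conj_of_order 18 (by decide +kernel) (by rw [order_pow hm, (rep 18).1]) (rep 18).1
  choose c hc using fun χ : IrrCharacter G => H849.OZ.rat (χ := χ) hrat
  have hd : ∀ χ : IrrCharacter G, (χ : G → ℂ) 1 = (charDegree (χ : G → ℂ) : ℂ) := fun χ =>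
    (H686.CharKit.charDegree_irr χ).symm
  refine ⟨c, fun χ => ?_, ?_, ?_⟩
  · obtain ⟨M, hM⟩ := Blocks.ExistsModular.exists_isPModular (show Nat.Prime 7 by norm_num)
    have h3 := H849.OZ.av_sub_mem (χ := χ) (by norm_num) hM.2.1.isPrime hM.2.2 x (j := 0) (n := 1) (by
      rw [pow_zero, one_pow, pow_one]
      have h := pow_orderOf_eq_one x
      rw [hx, o7] at h
      rw [hx]
      exact h.symm)
    rw [pow_zero] at h3
    have h4 : av χ x - av χ (1 : G) = ((c χ - charDegree (χ : G → ℂ) : ℤ) : AlgInt) := by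
      apply Subtype.ext
      rw [show ((av χ x - av χ (1 : G) : AlgInt) : ℂ) = (av χ x : ℂ) - (av χ (1 : G) : ℂ) from rfl, av_coe, av_coe, hc, hd]
      push_cast
      rfl
    rw [h4, int_mem_iff (by norm_num) hM.2.1.isPrime hM.2.2] at h3
    have h5 : (charDegree (χ : G → ℂ) : ℤ) - c χ = -(c χ - charDegree (χ : G → ℂ)) := by ring
    rw [h5]
    exact (dvd_neg).2 (by exact_mod_cast h3)
  · have h1 := S0145.sum_irr_mul_conj x x
    rw [if_pos (IsConj.refl x)] at h1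
    have h2 : ((∑ χ : IrrCharacter G, c χ * c χ : ℤ) : ℂ) = ((7 : ℤ) : ℂ) := by
      have h3 : ((Nat.card (Subgroup.centralizer ({x} : Set G)) : ℕ) : ℂ) = 7 := by
        have := c7
        change Nat.card (Subgroup.centralizer ({x} : Set G)) = 7 at this
        rw [this]; norm_num
      rw [h3] at h1
      rw [show (((7 : ℤ)) : ℂ) = 7 by norm_num, ← h1]
      push_cast
      refine Finset.sum_congr rfl fun χ _ => ?_
      rw [hc χ]
      simp
    exact_mod_cast h2
  · have h1 := S0145.sum_irr_mul_conj (1 : G) x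
    rw [if_neg (fun h => by
      have h2 := orderOf_eq_of_conj h
      rw [orderOf_one, hx, o7] at h2
      omega)] at h1
    have h2 : ((∑ χ : IrrCharacter G, (charDegree (χ : G → ℂ) : ℤ) * c χ : ℤ) : ℂ) = ((0 : ℤ) : ℂ) := by
      rw [show (((0 : ℤ)) : ℂ) = 0 by norm_num, ← h1]
      push_cast
      refine Finset.sum_congr rfl fun χ _ => ?_
      rw [hc χ, hd χ]
      simp
    exact_mod_cast h2

/-- The nontrivial degrees are at least 14 (local part: at least 9). -/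
theorem nine_le {χ : IrrCharacter G} (hne : (χ : G → ℂ) ≠ 1) : 9 ≤ charDegree (χ : G → ℂ) := by
  obtain ⟨v, h1, ⟨m, hm⟩, -, -⟩ := key hne
  rw [abs_lt] at h1
  generalize charDegree (χ : G → ℂ) = d at *
  omega

theorem ne_27 {χ : IrrCharacter G} (h : charDegree (χ : G → ℂ) = 27) : False := by
  have hne : (χ : G → ℂ) ≠ 1 := by
    intro h1
    have h2 := H686.CharKit.charDegree_irr χ
    rw [h, h1] at h2
    norm_num at h2
  obtain ⟨v, h1, ⟨m, hm⟩, h3, ⟨k, hk⟩⟩ := key hne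
  rw [abs_lt] at h1
  rw [h] at *
  push_cast at *
  omega

/-- the five characters -/
theorem five : ∃ t : Fin 5 → IrrCharacter G, ∀ i, charDegree (t i : G → ℂ) = (![1, 36, 90, 160, 225] : Fin 5 → ℕ) i := by
  have h1 : (1 : ℕ) ∈ charDegrees G := H664.Eight.one_mem
  have h36 : 36 ∈ charDegrees G := by
    obtain ⟨f⟩ := J2_iso Cfsg.Agent.S1619.result.2.2.2
    rw [← H424.DegTools.charDegrees_congr f]
    exact H118.FD.Rows.mem_36 ⟨MulEquiv.refl _⟩
  obtain ⟨a, ha⟩ := h1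
  obtain ⟨b, hb⟩ := h36
  obtain ⟨c, hc⟩ := H175.Eight.JTwo.deg_90
  obtain ⟨d, hd⟩ := H175.Eight.JTwo.deg_160
  obtain ⟨e, he⟩ := H175.Eight.JTwo.deg_225
  refine ⟨![a, b, c, d, e], fun i => ?_⟩
  fin_cases i
  exacts [ha, hb, hc, hd, he]

theorem dvd_card (χ : IrrCharacter G) : charDegree (χ : G → ℂ) ∣ 604800 := by
  have h := Cfsg.Agent.Blocks.Knorr.charDegree_dvd χ.2
  rwa [card_G] at h

/-- **Six characters in the column of order 7 leave one more.** -/
theorem sixth [Fintype (IrrCharacter G)] {c : IrrCharacter G → ℤ}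
    (h7 : ∀ χ : IrrCharacter G, (7 : ℤ) ∣ (charDegree (χ : G → ℂ) : ℤ) - c χ) (hs : ∑ χ : IrrCharacter G, c χ * c χ = 7)
    (χ : IrrCharacter G) : c χ = 0 ∨ c χ = 1 ∨ c χ = -1 := by
  classical
  obtain ⟨t, ht⟩ := five
  have hinj : Function.Injective t := by
    intro i j hij
    have h1 := ht i
    rw [hij, ht j] at h1
    revert h1
    fin_cases i <;> fin_cases j <;> simp
  have hall : ∀ χ : IrrCharacter G, c χ * c χ ≤ 7 := fun χ => by
    rw [← hs]
    exact Finset.single_le_sum (f := fun χ => c χ * c χ) (fun χ _ => mul_self_nonneg _) (Finset.mem_univ χ)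
  have hb : ∀ χ : IrrCharacter G, -2 ≤ c χ ∧ c χ ≤ 2 := fun χ => by
    have := hall χ
    constructor <;> nlinarith
  by_contra hno
  have hmem : χ ∉ Finset.univ.image t := by
    intro h
    obtain ⟨i, -, rfl⟩ := Finset.mem_image.1 h
    have h1 := h7 (t i)
    have h2 := hb (t i)
    rw [ht i] at h1
    fin_cases i <;> simp at h1 h2 hno <;> omega
  have h1 : ∑ ψ ∈ insert χ (Finset.univ.image t), c ψ * c ψ ≤ 7 := by
    rw [← hs]
    exact Finset.sum_le_sum_of_subset_of_nonneg (Finset.subset_univ _) fun ψ _ _ => mul_self_nonneg _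
  rw [Finset.sum_insert hmem, Finset.sum_image fun i _ j _ h => hinj h] at h1
  have h2 : ∀ i : Fin 5, 1 ≤ c (t i) * c (t i) := by
    intro i
    have h3 := h7 (t i)
    rw [ht i] at h3
    have h4 : c (t i) ≠ 0 := by
      intro h5
      rw [h5] at h3
      fin_cases i <;> simp at h3 <;> omega
    nlinarith [mul_self_pos.2 h4]
  have h3 : (5 : ℤ) ≤ ∑ i : Fin 5, c (t i) * c (t i) := by
    calc (5 : ℤ) = ∑ i : Fin 5, (1 : ℤ) := by simp
      _ ≤ _ := Finset.sum_le_sum fun i _ => h2 i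
  have h4 := hb χ
  have h5 : c χ = 2 ∨ c χ = -2 := by omega
  rcases h5 with h5 | h5 <;> rw [h5] at h1 <;> linarith

theorem mod_seven (χ : IrrCharacter G) : charDegree (χ : G → ℂ) % 7 = 0 ∨ charDegree (χ : G → ℂ) % 7 = 1 ∨
    charDegree (χ : G → ℂ) % 7 = 6 := by
  classical
  have := Characters.Core.finite_irr (G := G)
  have := Fintype.ofFinite (IrrCharacter G)
  obtain ⟨c, h7, hs, -⟩ := col
  have h1 := h7 χ
  rcases sixth h7 hs χ with h | h | h <;> rw [h] at h1 <;> omega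

theorem ne_64 {χ : IrrCharacter G} (h : charDegree (χ : G → ℂ) = 64) : False := by
  classical
  have := Characters.Core.finite_irr (G := G)
  have := Fintype.ofFinite (IrrCharacter G)
  obtain ⟨c, h7, hs, h0⟩ := col
  obtain ⟨t, ht⟩ := five
  have hinj : Function.Injective t := by
    intro i j hij
    have h1 := ht i
    rw [hij, ht j] at h1
    revert h1
    fin_cases i <;> fin_cases j <;> simp
  have hc : ∀ i, c (t i) = (![1, 1, -1, -1, 1] : Fin 5 → ℤ) i := by
    intro i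
    have h1 := h7 (t i)
    have h2 := sixth h7 hs (t i)
    rw [ht i] at h1
    fin_cases i <;> simp at h1 h2 ⊢ <;> omega
  have hcχ : c χ = 1 := by
    have h1 := h7 χ
    have h2 := sixth h7 hs χ
    rw [h] at h1
    omega
  have hmem : χ ∉ Finset.univ.image t := by
    intro h1
    obtain ⟨i, -, hi⟩ := Finset.mem_image.1 h1
    have h2 := ht i
    rw [hi, h] at h2
    revert h2
    fin_cases i <;> simp
  set s := insert χ (Finset.univ.image t) with hsdef
  have e1 : ∑ ψ ∈ s, c ψ * c ψ = 6 := by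
    rw [hsdef, Finset.sum_insert hmem, Finset.sum_image fun i _ j _ h => hinj h]
    simp only [hc, hcχ]
    simp [Fin.sum_univ_succ]
  have e2 : ∑ ψ ∈ s, (charDegree (ψ : G → ℂ) : ℤ) * c ψ = 76 := by
    rw [hsdef, Finset.sum_insert hmem, Finset.sum_image fun i _ j _ h => hinj h]
    simp only [hc, hcχ, ht, h]
    simp [Fin.sum_univ_succ]
  have f1 : ∑ ψ ∈ sᶜ, c ψ * c ψ = 1 := by
    have := Finset.sum_add_sum_compl s (fun ψ => c ψ * c ψ)
    rw [e1, hs] at this
    linarith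
  have f2 : ∑ ψ ∈ sᶜ, (charDegree (ψ : G → ℂ) : ℤ) * c ψ = -76 := by
    have := Finset.sum_add_sum_compl s (fun ψ : IrrCharacter G => (charDegree (ψ : G → ℂ) : ℤ) * c ψ)
    rw [e2, h0] at this
    linarith
  obtain ⟨ω, hω, hω0⟩ := Finset.exists_ne_zero_of_sum_ne_zero (by rw [f1]; norm_num : ∑ ψ ∈ sᶜ, c ψ * c ψ ≠ 0)
  have hω1 : c ω ≠ 0 := fun h => hω0 (by rw [h]; rfl)
  have hoth : ∀ ψ ∈ sᶜ, ψ ≠ ω → c ψ = 0 := by
    intro ψ hψ hne
    by_contra h1
    have h2 : c ω * c ω + c ψ * c ψ ≤ 1 := by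
      rw [← f1, ← Finset.sum_pair hne.symm (f := fun ψ => c ψ * c ψ)]
      refine Finset.sum_le_sum_of_subset_of_nonneg ?_ fun ψ _ _ => mul_self_nonneg _
      intro a ha
      rcases Finset.mem_insert.1 ha with rfl | ha
      · exact hω
      · rw [Finset.mem_singleton.1 ha]; exact hψ
    have h3 := mul_self_pos.2 h1
    have h4 := mul_self_pos.2 hω1
    linarith
  have g2 : (charDegree (ω : G → ℂ) : ℤ) * c ω = -76 := by
    rw [← f2]
    symm
    apply Finset.sum_eq_single_of_mem ω hω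
    intro ψ hψ hne
    rw [hoth ψ hψ hne, mul_zero]
  have h1 : charDegree (ω : G → ℂ) = 76 := by
    rcases sixth h7 hs ω with h2 | h2 | h2
    · exact absurd h2 hω1
    · rw [h2] at g2; omega
    · rw [h2] at g2; omega
  have h2 := dvd_card ω
  rw [h1] at h2
  revert h2
  decide

/-- **No degree of `J₂` is a prime power.** -/
theorem not_pp {d : ℕ} (hd : d ∈ charDegrees G) : ¬ IsPrimePow d := by
  rintro ⟨p, k, hp, hk, rfl⟩
  obtain ⟨χ, hχ⟩ := hd
  have hp' : p.Prime := Nat.prime_iff.2 hp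
  have hne : (χ : G → ℂ) ≠ 1 := by
    intro h1
    have h2 := H686.CharKit.charDegree_irr χ
    rw [hχ, h1] at h2
    have h3 : 1 < p ^ k := Nat.one_lt_pow hk.ne' hp'.one_lt
    have h4 : ((p ^ k : ℕ) : ℂ) = ((1 : ℕ) : ℂ) := by rw [h2]; simp
    have h5 : p ^ k = 1 := by exact_mod_cast h4
    omega
  have h9 := nine_le hne
  have hm := mod_seven χ
  have hdv := dvd_card χ
  have h27 : charDegree (χ : G → ℂ) ≠ 27 := ne_27
  have h64 : charDegree (χ : G → ℂ) ≠ 64 := ne_64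
  rw [hχ] at h9 hm hdv h27 h64
  have hpd : p ∣ 604800 := (dvd_pow_self p hk.ne').trans hdv
  have hp4 : p = 2 ∨ p = 3 ∨ p = 5 ∨ p = 7 := by
    have h1 : p ∈ Nat.primeFactors 604800 := Nat.mem_primeFactors.2 ⟨hp', hpd, by norm_num⟩
    have h2 : Nat.primeFactors 604800 = {2, 3, 5, 7} := by
      rw [show 604800 = 2 ^ 7 * (3 ^ 3 * (5 ^ 2 * 7)) by norm_num, Nat.primeFactors_mul (by norm_num) (by norm_num),
        Nat.primeFactors_mul (by norm_num) (by norm_num), Nat.primeFactors_mul (by norm_num) (by norm_num),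
        Nat.primeFactors_prime_pow (by norm_num) Nat.prime_two, Nat.primeFactors_prime_pow (by norm_num) Nat.prime_three,
        Nat.primeFactors_prime_pow (by norm_num) Nat.prime_five, Nat.Prime.primeFactors (by norm_num : Nat.Prime 7)]
      rfl
    rw [h2] at h1
    simpa using h1
  have hle : ∀ b : ℕ, ¬ p ^ (b + 1) ∣ 604800 → k ≤ b := by
    intro b hb
    by_contra h
    exact hb ((pow_dvd_pow p (by omega)).trans hdv)
  rcases hp4 with rfl | rfl | rfl | rfl
  · have := hle 7 (by norm_num)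
    interval_cases k <;> omega
  · have := hle 3 (by norm_num)
    interval_cases k <;> omega
  · have := hle 2 (by norm_num)
    interval_cases k <;> omega
  · have := hle 1 (by norm_num)
    interval_cases k <;> omega

/-- **The least nontrivial degree of `J₂` is at least 14.** -/
theorem fourteen_le {d : ℕ} (hd : d ∈ charDegrees G) (h1 : d ≠ 1) : 14 ≤ d := by
  obtain ⟨χ, hχ⟩ := hd
  have hne : (χ : G → ℂ) ≠ 1 := by
    intro h2
    have h3 := H686.CharKit.charDegree_irr χ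
    rw [hχ, h2] at h3
    have h4 : ((d : ℕ) : ℂ) = ((1 : ℕ) : ℂ) := by rw [h3]; simp
    exact h1 (by exact_mod_cast h4)
  have h9 := nine_le hne
  have hm := mod_seven χ
  have hdv := dvd_card χ
  rw [hχ] at h9 hm hdv
  by_contra h
  have h13 : d = 13 := by omega
  subst h13
  revert hdv
  decide

end Cfsg.Agent.H409.S8.JTwo
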