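import Cfsg.Agent.H409.S8.SocOne
import Cfsg.Agent.H409.S8.JTwoDeg
import Cfsg.Agent.H58.S8.Iso
import Cfsg.Agent.NotCT.Orders
import Cfsg.Agent.H450.S8.Core

/-!
# S4908, the group `J₂`: degrees, SOC1 (helper409)

Everything from the classification and Itô-Michler as hypotheses; see `RowJTwo` for the final form.
-/

set_option autoImplicit false

universe u v

namespace Cfsg.Agent.H409.S8.JTwo

open Cfsg Cfsg.Agent.H704.S8 Cfsg.Agent.NotCT

variable {X : Type v} [Group X]

/-- the degrees of `J₂` are those of the group on 100 points -/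
theorem cd_eq (hX : Spor.IsoJ2 X) : charDegrees X = charDegrees Cfsg.Agent.SporadicA.J2Hundred.G := by
  obtain ⟨e⟩ := hX
  obtain ⟨f⟩ := Cfsg.Agent.J2.HundredGens.J2_iso Cfsg.Agent.S1619.result.2.2.2
  exact H424.DegTools.charDegrees_congr (e.trans f)

theorem no_pp (hX : Spor.IsoJ2 X) : ∀ d ∈ charDegrees X, ¬ IsPrimePow d := fun d hd =>
  not_pp (by rwa [← cd_eq hX])

theorem ge_14 (hX : Spor.IsoJ2 X) : ∀ d ∈ charDegrees X, 2 ≤ d → 14 ≤ d := fun d hd h2 =>
  fourteen_le (by rwa [← cd_eq hX]) (by omega)

/-- the test of the degrees -/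
def P (d : ℕ) : Bool := (d == 1 || decide (14 ≤ d)) && [0, 1, 6].contains (d % 7) && d != 27 && d != 64

theorem num (hX : Spor.IsoJ2 X) : H450.S8.Num (charDegrees X) 604800 P where
  pos := by norm_num
  dvd hd := by
    rw [cd_eq hX] at hd
    obtain ⟨χ, rfl⟩ := hd
    exact dvd_card χ
  ok {d} hd := by
    rw [cd_eq hX] at hd
    have h14 : d ≠ 1 → 14 ≤ d := fourteen_le hd
    obtain ⟨χ, hχ⟩ := hd
    have hm := mod_seven χ
    have h27 : d ≠ 27 := fun h => ne_27 (hχ.trans h)
    have h64 : d ≠ 64 := fun h => ne_64 (hχ.trans h)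
    rw [hχ] at hm
    have h1 : (d == 1 || decide (14 ≤ d)) = true := by
      by_cases h : d = 1
      · simp [h]
      · simp [h14 h]
    have h2 : [0, 1, 6].contains (d % 7) = true := by
      rcases hm with h | h | h <;> rw [h] <;> rfl
    unfold P
    rw [h1, h2]
    simp [h27, h64]

theorem data (hX : Spor.IsoJ2 X) (hout : (MulAut.conj : X →* MulAut X).range.index ∣ 2) :
    H245.S8.Data 2 X 11 14 where
  out _ := hout
  prime := by norm_num
  odd := by norm_num
  ndvd := by rw [Orders.j2 hX]; norm_num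
  ge := ge_14 hX
  ten := by norm_num
  le := by norm_num

/-- the sporadic groups: a prime divisor `≥ 11` -/
theorem spor (hX : Spor.IsoJ2 X) (Y : Type u) [Group Y] (h : Lie.IsoTits Y ∨ IsSporadicGroup Y)
    (hr : ∀ r : ℕ, r.Prime → r ≠ 2 → r ∣ Nat.card Y → r ∣ Nat.card X) : Nonempty (Y ≃* X) := by
  have hc := Orders.j2 hX
  have kill : ∀ r : ℕ, r.Prime → r ≠ 2 → r ∣ Nat.card Y → ¬ r ∣ 604800 → Nonempty (Y ≃* X) := fun r h1 h2 h3 h4 =>
    (h4 (hc ▸ hr r h1 h2 h3)).elim
  rcases h with h | h
  · exact kill 13 (by norm_num) (by norm_num) (by rw [Orders.tits h]; norm_num) (by norm_num)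
  rcases h with h | h | h | h | h | h | h | h | h | h | h | h | h | h | h | h | h | h | h | h | h | h | h | h | h | h
  · exact kill 11 (by norm_num) (by norm_num) (by rw [Orders.m11 h]; norm_num) (by norm_num)
  · exact kill 11 (by norm_num) (by norm_num) (by rw [Orders.m12 h]; norm_num) (by norm_num)
  · exact kill 11 (by norm_num) (by norm_num) (by rw [Orders.m22 h]; norm_num) (by norm_num)
  · exact kill 11 (by norm_num) (by norm_num) (by rw [Orders.m23 h]; norm_num) (by norm_num)
  · exact kill 11 (by norm_num) (by norm_num) (by rw [Orders.m24 h]; norm_num) (by norm_num)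
  · exact kill 11 (by norm_num) (by norm_num) (by rw [Orders.j1 h]; norm_num) (by norm_num)
  · obtain ⟨e⟩ := h
    obtain ⟨f⟩ := hX
    exact ⟨e.trans f.symm⟩
  · exact kill 17 (by norm_num) (by norm_num) (by rw [Orders.j3 h]; norm_num) (by norm_num)
  · exact kill 11 (by norm_num) (by norm_num) (by rw [Orders.j4 h]; norm_num) (by norm_num)
  · exact kill 11 (by norm_num) (by norm_num) (by rw [Orders.co1 h]; norm_num) (by norm_num)
  · exact kill 11 (by norm_num) (by norm_num) (by rw [Orders.co2 h]; norm_num) (by norm_num)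
  · exact kill 11 (by norm_num) (by norm_num) (by rw [Orders.co3 h]; norm_num) (by norm_num)
  · exact kill 11 (by norm_num) (by norm_num) (by rw [Orders.mcl h]; norm_num) (by norm_num)
  · exact kill 11 (by norm_num) (by norm_num) (by rw [Orders.hs h]; norm_num) (by norm_num)
  · exact kill 11 (by norm_num) (by norm_num) (by rw [Orders.suz h]; norm_num) (by norm_num)
  · exact kill 17 (by norm_num) (by norm_num) (by rw [Orders.he h]; norm_num) (by norm_num)
  · exact kill 29 (by norm_num) (by norm_num) (by rw [Orders.ru h]; norm_num) (by norm_num)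
  · exact kill 11 (by norm_num) (by norm_num) (by rw [Orders.on h]; norm_num) (by norm_num)
  · exact kill 11 (by norm_num) (by norm_num) (by rw [Orders.ly h]; norm_num) (by norm_num)
  · exact kill 11 (by norm_num) (by norm_num) (by rw [Orders.fi22 h]; norm_num) (by norm_num)
  · exact kill 11 (by norm_num) (by norm_num) (by rw [Orders.fi23 h]; norm_num) (by norm_num)
  · exact kill 11 (by norm_num) (by norm_num) (by rw [Orders.fi24 h]; norm_num) (by norm_num)
  · exact kill 11 (by norm_num) (by norm_num) (by rw [Orders.hn h]; norm_num) (by norm_num)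
  · exact kill 13 (by norm_num) (by norm_num) (by rw [Orders.th h]; norm_num) (by norm_num)
  · exact kill 11 (by norm_num) (by norm_num) (by rw [Orders.b h]; norm_num) (by norm_num)
  · exact kill 11 (by norm_num) (by norm_num) (by rw [Orders.m h]; norm_num) (by norm_num)

end Cfsg.Agent.H409.S8.JTwo
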