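import Cfsg.Agent.H409.S8.JTwoCore
import Cfsg.Agent.H450.S8.Soc2
import Cfsg.Agent.H33.IMRest
import Cfsg.Agent.H498.SporOut
import Cfsg.Agent.S2066

/-!
# S4908, the group `J₂`: SOC1 and SOC2 (helper409)
-/

set_option autoImplicit false

universe u v

namespace Cfsg.Agent.H409.S8.JTwo

open Cfsg Cfsg.Agent.H704.S8 Cfsg.Agent.NotCT

variable {X : Type v} [Group X]

theorem index_inn (hX : Spor.IsoJ2 X) : (MulAut.conj : X →* MulAut X).range.index = 2 := by
  obtain ⟨e⟩ := hX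
  rw [H498.SporOut.index_congr e]
  exact Cfsg.Agent.S2066.result

theorem im (Y : Type u) [Group Y] [Finite Y] (hs : IsSimpleGroup Y) (hna : ¬ IsMulCommutative Y) (p : ℕ) (hp : p.Prime)
    (hd : p ∣ Nat.card Y) : H33.IM p Y := by
  have := Fact.mk hp
  exact H33.im_known H33.rest hs (S0000.result (G := Y)) hna hd

/-- **SOC1 of `J₂`.** -/
theorem soc1 [Finite X] (hX : IsJ2 X) (D : Set ℕ) (hD : Deg 2 X D) : Soc1.{u} D X := by
  have h : Spor.IsoJ2 X := H58.S8.iso_j2 (X := X) hX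
  have h1 : H245.S8.Data 2 X 11 14 := data h (by rw [index_inn h])
  have h2 : ∀ d ∈ charDegrees X, ¬ IsPrimePow d := no_pp h
  have h3 : ∀ (Y : Type u) [Group Y] [Finite Y] [IsSimpleGroup Y], IsKnownSimple' Y := fun Y _ _ _ =>
    S0000.result (G := Y)
  have h4 : ∀ (Y : Type u) [Group Y] [Finite Y], IsSimpleGroup Y → ¬ IsMulCommutative Y → ∀ p : ℕ, p.Prime →
      p ∣ Nat.card Y → H33.IM p Y := fun Y _ _ => im Y
  intro A _ _ S hA hAD
  exact soc1_of (X := X) h1 h2 h3 h4 (fun Y _ _ _ h1 h2 => spor h Y h1 h2) D hD hA hAD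

/-- **SOC2 of `J₂`.** -/
theorem soc2 [Finite X] (hX : IsJ2 X) (D : Set ℕ) (hD : Deg 2 X D) : Soc2.{u} D := by
  have h : Spor.IsoJ2 X := H58.S8.iso_j2 (X := X) hX
  have h1 : H450.S8.Num (charDegrees X) 604800 P := num h
  have h2 : (MulAut.conj : X →* MulAut X).range.index ≤ 2 := (index_inn h).le
  intro Y _ _ hY
  refine H450.S8.soc2_two (X := X) h1 h2 (fac := [(2, 8), (3, 3), (5, 2), (7, 1)]) ?_ (by decide +kernel) hD hY
  intro x hx
  simp only [List.mem_cons, List.not_mem_nil, or_false] at hx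
  rcases hx with rfl | rfl | rfl | rfl <;> norm_num

end Cfsg.Agent.H409.S8.JTwo
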