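import Cfsg.Agent.H245.S8.SocAlt
import Cfsg.Agent.H649.MonoCompl
import Cfsg.Agent.H33.IM
import Cfsg.Agent.OddHalf.Known
import Cfsg.Agent.SmallSimple.EvenOrder

/-!
# S4908, SOC1 from weak degree bounds (helper409)

`soc1_of` : `H245.S8.Data c X q B`, no degree of `X` is a prime power, and the sporadic groups (and the Tits group)
whose odd prime divisors divide `|X|` are isomorphic to `X`.  Lie type: Steinberg; the other cases: Itô-Michler.
-/

set_option autoImplicit false

universe u v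

namespace Cfsg.Agent.H409.S8

open Cfsg Cfsg.Agent.H704.S8 Cfsg.Agent.H245.S8
open Cfsg.Agent.H691.AN (AlmostSimple)
open Cfsg.Agent.H424.DegTools (mem_charDegrees charDegrees_of_surjective charDegrees_congr dvd_card clifford_down
  clifford_up pos_of_mem)

/-- the degrees `≥ 3` in `D` are not prime powers -/
theorem not_pp {c : ℕ} {X : Type v} [Group X] [Finite X] {D : Set ℕ} (hD : Deg c X D)
    (hout : c = 2 → (MulAut.conj : X →* MulAut X).range.index ∣ 2) (hpp : ∀ d ∈ charDegrees X, ¬ IsPrimePow d) :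
    ∀ d ∈ D, 3 ≤ d → ¬ IsPrimePow d := by
  intro d hd h3
  rcases hD with rfl | ⟨hc, rfl⟩
  · exact hpp d hd
  · have hN : ((MulAut.conj : X →* MulAut X).range).Normal := by
      refine ⟨?_⟩
      rintro _ ⟨x, rfl⟩ g
      exact ⟨g x, by
        ext y
        simp⟩
    obtain ⟨e, he, ⟨t, rfl⟩, h2⟩ := clifford_down ((MulAut.conj : X →* MulAut X).range) hd
    have he' : e ∈ charDegrees X :=
      charDegrees_of_surjective (MulAut.conj : X →* MulAut X).rangeRestrict
        (MonoidHom.rangeRestrict_surjective _) he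
    have he0 := pos_of_mem he
    rw [Nat.mul_div_cancel_left _ he0] at h2
    have h4 := h2.trans (hout hc)
    have h5 : t = 1 ∨ t = 2 := (Nat.dvd_prime Nat.prime_two).1 h4
    rcases h5 with rfl | rfl
    · rw [mul_one]; exact hpp e he'
    · intro hp
      have h6 : e ≠ 1 := by omega
      exact hpp e he' (hp.dvd (dvd_mul_right e 2) h6)

/-- **SOC1.** -/
theorem soc1_of {c : ℕ} {X : Type v} [Group X] [Finite X] {q B : ℕ} (h : Data c X q B)
    (hpp : ∀ d ∈ charDegrees X, ¬ IsPrimePow d)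
    (hK : ∀ (Y : Type u) [Group Y] [Finite Y] [IsSimpleGroup Y], IsKnownSimple' Y)
    (hIM : ∀ (Y : Type u) [Group Y] [Finite Y], IsSimpleGroup Y → ¬ IsMulCommutative Y → ∀ p : ℕ, p.Prime →
      p ∣ Nat.card Y → H33.IM p Y)
    (hsp : ∀ (Y : Type u) [Group Y] [Finite Y], IsSimpleGroup Y → (Lie.IsoTits Y ∨ IsSporadicGroup Y) →
      (∀ r : ℕ, r.Prime → r ≠ 2 → r ∣ Nat.card Y → r ∣ Nat.card X) → Nonempty (Y ≃* X)) :
    ∀ D : Set ℕ, Deg c X D → Soc1.{u} D X := by
  intro D hD A _ _ S hA hAD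
  have hS := hA.normal
  have hs := hA.simple
  have him : ∀ r : ℕ, r.Prime → r ≠ 2 → r ∣ Nat.card S → r ∣ Nat.card X := by
    intro r hr hr2 hrd
    obtain ⟨χ, hχ⟩ := (hIM S hs hA.nonab r hr hrd).of_normal S
    exact deg_prime hD h.out hr hr2 _ (hAD ⟨χ, rfl⟩) hχ
  rcases OddHalf.Known.classify' hA.nonab (hK S) with h1 | ⟨p, hp, h1⟩ | h1 | h1
  · obtain ⟨n, hn, ⟨e⟩⟩ := h1
    exact (h.no_alt hD hA hAD hn e).elim
  · exfalso
    have hp' : Fact p.Prime := ⟨hp⟩
    obtain ⟨χ, hχ, -, h2⟩ := H691.StExt.exists_ext S (H996.AllSplit.hasSplit_of_lie hp h1)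
    obtain ⟨Q⟩ := (inferInstance : Nonempty (Sylow p S))
    have hpd := H649.MN.dvd_card_of_lie hp h1
    obtain ⟨n, hn⟩ := IsPGroup.iff_card.1 Q.isPGroup'
    have hn1 : n ≠ 0 := by
      rintro rfl
      have h3 := Q.dvd_card_of_dvd_card hpd
      rw [hn, pow_zero, Nat.dvd_one] at h3
      exact hp.one_lt.ne' h3
    have h3 : 3 ≤ p ^ n := by
      rcases hp.eq_two_or_odd' with rfl | hodd
      · have h4 := SmallSimple.EvenOrder.four_dvd_card hA.nonab hpd
        have h5 : 4 ∣ Nat.card Q := by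
          have h6 : 2 ^ 2 ∣ Nat.card S := h4
          exact Q.pow_dvd_card_of_pow_dvd_card h6
        rw [hn] at h5
        have := Nat.le_of_dvd (by positivity) h5
        omega
      · have h4 : 3 ≤ p := by
          have := hp.two_le
          rcases hodd with ⟨k, rfl⟩
          omega
        exact h4.trans (Nat.le_self_pow hn1 p)
    have h4 : p ^ n ∈ charDegrees A := mem_charDegrees.2 ⟨χ, hχ, by rw [h2 Q, hn]⟩
    exact not_pp hD h.out hpp _ (hAD h4) h3 (hp.isPrimePow.pow hn1)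
  · exact hsp S hs (Or.inl h1) him
  · exact hsp S hs (Or.inr h1) him

end Cfsg.Agent.H409.S8
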